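import Cfsg.Agent.SylowFix.Basic
import Mathlib.Algebra.Order.BigOperators.Group.Finset
import Mathlib.Algebra.BigOperators.Ring.Finset
import Mathlib.Tactic.Linarith
import Mathlib.Tactic.LinearCombination
import Mathlib.Data.Set.Card
import Mathlib.Tactic.Ring

/-!
# The fraction of points fixed by a Sylow subgroup

In a transitive action of a finite group in which a Sylow `p`-subgroup moves some point, the number
`f` of its fixed points satisfies `(2p - 1) f ≤ (p - 1) n`.

The proof is by induction, with the *slack* `(p - 1) n - (2p - 1) f`, which is a multiple of `p`.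
The key companion statement: a set of at most `p - 1 - d` points whose orbits have slack at most
`p d` is fixed pointwise by a common Sylow `p`-subgroup.
-/

namespace Cfsg.Agent.SylowFix

open MulAction
open scoped Pointwise

universe u

variable (p : ℕ) [hp : Fact p.Prime]

section Defs

variable (G : Type u) [Group G] {Ω : Type u} [MulAction G Ω]

/-- The Sylow subgroups fixing a point. -/
def fixers (ω : Ω) : Set (Sylow p G) := {Q | ∀ x ∈ Q, x • ω = ω}

variable {p G}

theorem mem_fixers {ω : Ω} {Q : Sylow p G} : Q ∈ fixers p G ω ↔ ∀ x ∈ Q, x • ω = ω := Iff.rfl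

theorem mem_sylow_smul_iff {Q : Sylow p G} {g x : G} : x ∈ g • Q ↔ g⁻¹ * x * g ∈ Q := by
  show x ∈ ((g • Q : Sylow p G) : Subgroup G) ↔ g⁻¹ * x * g ∈ (Q : Subgroup G)
  rw [Sylow.coe_subgroup_smul, Subgroup.mem_pointwise_smul_iff_inv_smul_mem]
  simp [MulAut.smul_def, MulAut.conj_symm_apply]

theorem fixers_smul (g : G) (ω : Ω) : fixers p G (g • ω) = g • fixers p G ω := by
  ext Q
  rw [Set.mem_smul_set_iff_inv_smul_mem]
  simp only [mem_fixers, mem_sylow_smul_iff, inv_inv]
  constructor
  · intro h x hx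
    have := h (g * x * g⁻¹) hx
    rw [mul_smul, mul_smul, inv_smul_smul] at this
    exact smul_left_cancel g this
  · intro h x hx
    have := h (g⁻¹ * x * g) (by simpa [mul_assoc] using hx)
    rw [mul_smul, mul_smul, inv_smul_eq_iff] at this
    exact this

theorem ncard_smul' {Y : Type u} [MulAction G Y] (g : G) (s : Set Y) : (g • s).ncard = s.ncard := by
  rw [← Set.image_smul, Set.ncard_image_of_injective _ (MulAction.injective g)]

theorem card_fixers_smul (g : G) (ω : Ω) :
    Nat.card (fixers p G (g • ω)) = Nat.card (fixers p G ω) := by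
  rw [fixers_smul, Nat.card_coe_set_eq, Nat.card_coe_set_eq, ncard_smul']

end Defs

variable {p}
variable {G : Type u} [Group G] [Finite G] {Ω : Type u} [MulAction G Ω] [Finite Ω]

open Classical in
/-- The orbit of a point as a finite set. -/
noncomputable def orb (G : Type u) [Group G] {Ω : Type u} [MulAction G Ω] [Finite Ω] (α : Ω) :
    Finset Ω :=
  letI := Fintype.ofFinite Ω
  Finset.univ.filter (· ∈ orbit G α)

omit [Finite G] in
theorem mem_orb {α β : Ω} : β ∈ orb G α ↔ β ∈ orbit G α := by simp [orb]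

open Classical in
/-- The fixed points of `P` in the orbit of `α`. -/
noncomputable def fixOrb (P : Sylow p G) (α : Ω) : Finset Ω :=
  (orb G α).filter (fun β => P ∈ fixers p G β)

open Classical in
/-- The weight of a point. -/
noncomputable def wt (P : Sylow p G) (β : Ω) : ℤ :=
  ((p : ℤ) - 1) - if P ∈ fixers p G β then 2 * (p : ℤ) - 1 else 0

/-- The slack of an orbit. -/
noncomputable def slack (P : Sylow p G) (α : Ω) : ℤ := ∑ β ∈ orb G α, wt P β

omit [Finite G] in
theorem slack_eq (P : Sylow p G) (α : Ω) :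
    slack P α = ((p : ℤ) - 1) * (orb G α).card - (2 * (p : ℤ) - 1) * (fixOrb P α).card := by
  classical
  rw [slack]
  simp only [wt, Finset.sum_sub_distrib, Finset.sum_const, nsmul_eq_mul]
  rw [← Finset.sum_filter, Finset.sum_const, nsmul_eq_mul]
  simp only [fixOrb]
  ring

omit [Finite G] in
theorem card_orb_pos (α : Ω) : 0 < (orb G α).card :=
  Finset.card_pos.mpr ⟨α, mem_orb.mpr (mem_orbit_self α)⟩

/-- Double counting. -/
theorem double_count (P : Sylow p G) (α : Ω) :
    (orb G α).card * Nat.card (fixers p G α) = Nat.card (Sylow p G) * (fixOrb P α).card := by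
  classical
  haveI := Fintype.ofFinite (Sylow p G)
  have h1 : ∑ β ∈ orb G α, ((Finset.univ : Finset (Sylow p G)).filter (· ∈ fixers p G β)).card =
      (orb G α).card * Nat.card (fixers p G α) := by
    rw [Finset.sum_const_nat fun β hβ => ?_]
    obtain ⟨g, rfl⟩ := mem_orb.mp hβ
    show _ = Nat.card (fixers p G α)
    rw [← card_fixers_smul g α, Nat.card_coe_set_eq, ← Set.ncard_coe_finset]
    simp
  have h2 : ∑ β ∈ orb G α, ((Finset.univ : Finset (Sylow p G)).filter (· ∈ fixers p G β)).card =
      Nat.card (Sylow p G) * (fixOrb P α).card := by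
    simp only [Finset.card_filter]
    rw [Finset.sum_comm, Nat.card_eq_fintype_card, ← Finset.card_univ]
    refine Finset.sum_const_nat fun Q _ => ?_
    rw [← Finset.card_filter]
    obtain ⟨g, rfl⟩ := exists_smul_eq G P Q
    refine (Finset.card_bij (fun β _ => g • β) ?_ (fun _ _ _ _ h => smul_left_cancel g h) ?_).symm
    · intro β hβ
      simp only [fixOrb, Finset.mem_filter, mem_orb] at hβ ⊢
      refine ⟨?_, ?_⟩
      · rw [← orbit_eq_iff.mpr hβ.1]
        exact mem_orbit β g
      · rw [fixers_smul]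
        exact Set.smul_mem_smul_set hβ.2
    · intro β hβ
      simp only [Finset.mem_filter, mem_orb] at hβ
      refine ⟨g⁻¹ • β, ?_, smul_inv_smul g β⟩
      simp only [fixOrb, Finset.mem_filter, mem_orb]
      refine ⟨?_, ?_⟩
      · rw [← orbit_eq_iff.mpr hβ.1]
        exact mem_orbit β g⁻¹
      · rw [fixers_smul, Set.mem_smul_set_iff_inv_smul_mem, inv_inv]
        exact hβ.2
  exact h1.symm.trans h2

theorem slack_sylow_indep (P Q : Sylow p G) (α : Ω) : slack P α = slack Q α := by
  have h := (double_count P α).symm.trans (double_count Q α)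
  rw [slack_eq, slack_eq, Nat.eq_of_mul_eq_mul_left Nat.card_pos h]

theorem fixOrb_modEq (P : Sylow p G) (α : Ω) :
    (orb G α).card ≡ (fixOrb P α).card [MOD p] := by
  classical
  have h := P.2.card_modEq_card_fixedPoints (orbit G α)
  have e1 : Nat.card (orbit G α) = (orb G α).card := by
    rw [Nat.card_coe_set_eq, ← Set.ncard_coe_finset]
    congr 1
    ext β
    simp [mem_orb]
  have e2 : Nat.card (fixedPoints (P : Subgroup G) (orbit G α)) = (fixOrb P α).card := by
    rw [← Nat.card_eq_finsetCard]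
    refine Nat.card_congr
      { toFun := fun b => ⟨(b : orbit G α).1, Finset.mem_filter.mpr ⟨mem_orb.mpr (b : orbit G α).2,
          fun x hx => congrArg Subtype.val (b.2 ⟨x, hx⟩)⟩⟩
        invFun := fun b => ⟨⟨b.1, mem_orb.mp (Finset.mem_filter.mp b.2).1⟩, fun x =>
          Subtype.ext ((Finset.mem_filter.mp b.2).2 x.1 x.2)⟩
        left_inv := fun b => rfl
        right_inv := fun b => rfl }
  rwa [e1, e2] at h

theorem dvd_slack (P : Sylow p G) (α : Ω) : (p : ℤ) ∣ slack P α := by
  obtain ⟨k, hk⟩ := Nat.modEq_iff_dvd.mp (fixOrb_modEq P α)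
  rw [slack_eq]
  exact ⟨(orb G α).card - (2 * ((p : ℤ)) - 1) * k - 2 * (orb G α).card, by
    linear_combination (-(2 * (p : ℤ) - 1)) * hk⟩

/-- A Sylow subgroup of a subgroup containing a Sylow subgroup is a Sylow subgroup. -/
theorem exists_lift {L : Subgroup G} {P : Sylow p G} (hPL : (P : Subgroup G) ≤ L) (Q : Sylow p L) :
    ∃ R : Sylow p G, (R : Subgroup G) = (Q : Subgroup L).map L.subtype := by
  have h : ¬ p ∣ ((Q : Subgroup L).map L.subtype).index := by
    rw [Subgroup.index_map_subtype]
    exact hp.out.not_dvd_mul Q.not_dvd_index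
      fun hd => P.not_dvd_index (hd.trans (Subgroup.index_dvd_of_le hPL))
  exact ⟨(Q.2.map L.subtype).toSylow h, rfl⟩

theorem subtype_mem_fixers_iff {L : Subgroup G} {P : Sylow p G} (hPL : (P : Subgroup G) ≤ L)
    {β : Ω} : P.subtype hPL ∈ fixers p L β ↔ P ∈ fixers p G β := by
  constructor
  · intro h x hx
    exact h ⟨x, hPL hx⟩ hx
  · intro h x hx
    exact h (x : G) hx

/-- The subgroup generated by the Sylow subgroups fixing a point. -/
def fixGen (p : ℕ) (G : Type u) [Group G] {Ω : Type u} [MulAction G Ω] (α : Ω) : Subgroup G :=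
  ⨆ Q ∈ fixers p G α, (Q : Subgroup G)

omit [Finite G] [Finite Ω] in
theorem fixGen_le (α : Ω) : fixGen p G α ≤ stabilizer G α :=
  iSup₂_le fun _ hQ x hx => hQ x hx

omit [Finite G] [Finite Ω] in
theorem le_fixGen {α : Ω} {Q : Sylow p G} (h : Q ∈ fixers p G α) :
    (Q : Subgroup G) ≤ fixGen p G α :=
  le_iSup₂ (f := fun (Q : Sylow p G) (_ : Q ∈ fixers p G α) => (Q : Subgroup G)) Q h

/-- A point fixed by all Sylow subgroups of `fixGen α` is fixed by all fixers of `α`. -/
theorem fixers_subset_of_univ {α β : Ω}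
    (h : fixers p (fixGen p G α) β = Set.univ) : fixers p G α ⊆ fixers p G β := fun Q hQ =>
  (subtype_mem_fixers_iff (le_fixGen hQ)).mp (h ▸ Set.mem_univ _)

/-- The slack of an orbit is the sum of the slacks of the suborbits. -/
theorem exists_suborbits {L : Subgroup G} {P : Sylow p G} (hPL : (P : Subgroup G) ≤ L) (α : Ω) :
    ∃ S : Finset Ω, S ⊆ orb G α ∧ slack P α = ∑ t ∈ S, slack (P.subtype hPL) t ∧
      ∀ β ∈ orb G α, ∃! t, t ∈ S ∧ β ∈ orb L t := by
  classical
  let e : Ω → Quotient (orbitRel L Ω) := Quotient.mk _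
  let r : Ω → Ω := fun β => Quotient.out (e β)
  have hr : ∀ β, r β ∈ orbit L β := fun β => orbitRel_apply.mp (Quotient.mk_out (s := orbitRel L Ω) β)
  have hrr : ∀ β γ, r β = r γ ↔ β ∈ orbit L γ := fun β γ => by
    rw [← orbitRel_apply, ← Quotient.eq (r := orbitRel L Ω)]
    exact ⟨fun h => by simpa [r, e] using congrArg e h, fun h => congrArg Quotient.out h⟩
  have hsub : ∀ β ∈ orb G α, ∀ γ ∈ orbit L β, γ ∈ orb G α := fun β hβ γ hγ => by
    obtain ⟨x, rfl⟩ := hγ
    rw [mem_orb] at hβ ⊢
    rw [← orbit_eq_iff.mpr hβ]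
    exact mem_orbit β (x : G)
  have hfib : ∀ t ∈ (orb G α).image r, (orb G α).filter (fun β => r β = t) = orb L t := by
    intro t ht
    obtain ⟨γ, hγ, rfl⟩ := Finset.mem_image.mp ht
    ext β
    rw [Finset.mem_filter, mem_orb (G := L), orbit_eq_iff.mpr (hr γ), hrr]
    exact ⟨fun h => h.2, fun h => ⟨hsub γ hγ β h, h⟩⟩
  refine ⟨(orb G α).image r, ?_, ?_, ?_⟩
  · intro t ht
    obtain ⟨γ, hγ, rfl⟩ := Finset.mem_image.mp ht
    exact hsub γ hγ _ (hr γ)
  · rw [slack, ← Finset.sum_fiberwise_of_maps_to (fun β hβ => Finset.mem_image_of_mem r hβ)]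
    refine Finset.sum_congr rfl fun t ht => ?_
    rw [slack, hfib t ht]
    refine Finset.sum_congr rfl fun β _ => ?_
    simp only [wt, subtype_mem_fixers_iff hPL]
  · intro β hβ
    refine ⟨r β, ⟨Finset.mem_image_of_mem r hβ, ?_⟩, ?_⟩
    · rw [← hfib _ (Finset.mem_image_of_mem r hβ)]
      exact Finset.mem_filter.mpr ⟨hβ, rfl⟩
    · rintro t ⟨ht, hβt⟩
      rw [← hfib t ht] at hβt
      exact (Finset.mem_filter.mp hβt).2.symm

/-- The fixers of a nonempty fixer set are itself. -/
theorem fixers_fixers {α : Ω} (h : (fixers p G α).Nonempty) :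
    fixers p G (fixers p G α) = fixers p G α := by
  obtain ⟨Q₀, hQ₀⟩ := h
  ext Q
  constructor
  · intro hQ y hy
    let K : Subgroup G := fixingSubgroup G {β : Ω | fixers p G β = fixers p G α}
    have hK : (Q₀ : Subgroup G) ≤ K := fun x hx => (mem_fixingSubgroup_iff G).mpr fun β hβ =>
      (hβ.symm ▸ hQ₀ : Q₀ ∈ fixers p G β) x hx
    have hinv : ∀ x ∈ Q, ∀ β : Ω, fixers p G β = fixers p G α →
        fixers p G (x • β) = fixers p G α := fun x hx β hβ => by
      rw [fixers_smul, hβ]
      exact hQ x hx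
    have hyn : y ∈ Subgroup.normalizer (K : Set G) := by
      refine Subgroup.mem_normalizer_iff.mpr fun x => ?_
      simp only [K, mem_fixingSubgroup_iff]
      constructor
      · intro hx β hβ
        rw [mul_smul, mul_smul, hx _ (hinv y⁻¹ (inv_mem hy) β hβ), smul_inv_smul]
      · intro hx β hβ
        have := hx _ (hinv y hy β hβ)
        rw [mul_smul, mul_smul, inv_smul_smul] at this
        exact smul_left_cancel _ this
    obtain ⟨k, hk⟩ := Q.2 ⟨y, hy⟩
    have hyp : y ^ p ^ k = 1 := by simpa using congrArg Subtype.val hk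
    exact (mem_fixingSubgroup_iff G).mp (mem_of_normalizes Q₀ hK ⟨k, hyp⟩ hyn) α rfl
  · intro hQ x hx
    rw [← fixers_smul, hQ x hx]

theorem orb_fixers (α : Ω) :
    (orb G (fixers p G α)).card ≤ (orb G α).card := by
  classical
  refine (Finset.card_le_card fun s hs => ?_).trans (Finset.card_image_le (f := fixers p G))
  obtain ⟨g, rfl⟩ := mem_orb.mp hs
  exact Finset.mem_image.mpr ⟨g • α, mem_orb.mpr (mem_orbit α g), fixers_smul g α⟩

/-- Passing to fixer sets multiplies slack by the orbit ratio. -/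
theorem slack_fixers (P : Sylow p G) {α : Ω} (h : (fixers p G α).Nonempty) :
    slack P α * (orb G (fixers p G α)).card = slack P (fixers p G α) * (orb G α).card := by
  set s := fixers p G α with hs
  have h1 := double_count P α
  have h2 := double_count P s
  rw [fixers_fixers h, ← hs] at h2
  rw [← hs] at h1
  have hy : 0 < Nat.card s := Nat.card_pos_iff.mpr ⟨h.to_subtype, inferInstance⟩
  have h3 : (orb G s).card * (fixOrb P α).card = (orb G α).card * (fixOrb P s).card := by
    apply Nat.eq_of_mul_eq_mul_right hy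
    calc (orb G s).card * (fixOrb P α).card * Nat.card s
        = (fixOrb P α).card * ((orb G s).card * Nat.card s) := by ring
      _ = (fixOrb P s).card * (Nat.card (Sylow p G) * (fixOrb P α).card) := by rw [h2]; ring
      _ = (fixOrb P s).card * ((orb G α).card * Nat.card s) := by rw [h1]
      _ = (orb G α).card * (fixOrb P s).card * Nat.card s := by ring
  have h3' : ((orb G s).card : ℤ) * (fixOrb P α).card = (orb G α).card * (fixOrb P s).card := by
    exact_mod_cast h3
  rw [slack_eq, slack_eq]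
  linear_combination (-(2 * (p : ℤ) - 1)) * h3'

theorem slack_of_univ (P : Sylow p G) {α : Ω} (h : fixers p G α = Set.univ) : slack P α ≤ 0 := by
  classical
  have : fixOrb P α = orb G α := by
    refine Finset.filter_true_of_mem fun β hβ => ?_
    obtain ⟨g, rfl⟩ := mem_orb.mp hβ
    rw [fixers_smul, h, Set.smul_set_univ]
    trivial
  rw [slack_eq, this]
  nlinarith [(orb G α).card.cast_nonneg (α := ℤ), (p.cast_nonneg : (0 : ℤ) ≤ p)]

omit [Finite Ω] in
theorem fixers_ne_univ_smul {α : Ω} (h : fixers p G α ≠ Set.univ) (g : G) :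
    fixers p G (g • α) ≠ Set.univ := fun e => h <| by
  rw [fixers_smul] at e
  simpa using congrArg (g⁻¹ • ·) e

variable (p)

/-- The bound holds in all groups of order at most `N`. -/
def GoodUpTo (N : ℕ) : Prop :=
  ∀ (H : Type u) [Group H] [Finite H] (Θ : Type u) [MulAction H Θ] [Finite Θ], Nat.card H ≤ N →
    ∀ (P : Sylow p H) (α : Θ), fixers p H α ≠ Set.univ → 0 ≤ slack P α

variable {p}

/-- Few points with orbits of small slack are fixed by a common Sylow subgroup. -/
theorem exists_common_fixer {N : ℕ} (hgood : GoodUpTo.{u} p N) :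
    ∀ (m : ℕ) (H : Type u) [Group H] [Finite H] (Θ : Type u) [MulAction H Θ] [Finite Θ],
      Nat.card H ≤ N → ∀ (d : ℕ) (T : Finset Θ) (P : Sylow p H), T.card ≤ m → m + d ≤ p - 1 →
        (∀ t ∈ T, slack P t ≤ p * d) → ∃ Q : Sylow p H, ∀ t ∈ T, Q ∈ fixers p H t := by
  intro m
  induction m with
  | zero =>
    intro H _ _ Θ _ _ _ d T P hT _ _
    exact ⟨P, fun t ht => by simp [Finset.card_eq_zero.mp (Nat.le_zero.mp hT)] at ht⟩
  | succ m ih =>
    intro H _ _ Θ _ _ hH d T P hT hmd hsl
    classical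
    rcases T.eq_empty_or_nonempty with rfl | hTne
    · exact ⟨P, by simp⟩
    have hp2 := hp.out.two_le
    have hne : ∀ t ∈ T, (fixers p H t).Nonempty := by
      intro t ht
      by_contra hemp
      rw [Set.not_nonempty_iff_eq_empty] at hemp
      have h0 : fixOrb P t = ∅ := by
        refine Finset.filter_false_of_mem fun β hβ => ?_
        obtain ⟨g, rfl⟩ := mem_orb.mp hβ
        rw [fixers_smul, hemp, Set.smul_set_empty]
        simp
      have hdvd : p ∣ (orb H t).card := by
        have := fixOrb_modEq P t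
        rw [h0, Finset.card_empty] at this
        exact Nat.modEq_zero_iff_dvd.mp this
      have hle : (p : ℤ) ≤ (orb H t).card := by
        exact_mod_cast Nat.le_of_dvd (card_orb_pos t) hdvd
      have hs := hsl t ht
      rw [slack_eq, h0, Finset.card_empty] at hs
      have hd : (d : ℤ) + 2 ≤ p := by
        have : d + 2 ≤ p := by omega
        exact_mod_cast this
      push_cast at hs
      nlinarith
    -- pass to the fixer sets
    let T' : Finset (Set (Sylow p H)) := T.image (fixers p H)
    have hfix : ∀ s ∈ T', fixers p H s = s := by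
      intro s hs
      obtain ⟨t, ht, rfl⟩ := Finset.mem_image.mp hs
      exact fixers_fixers (hne t ht)
    have hsl' : ∀ s ∈ T', slack P s ≤ p * d := by
      intro s hs
      obtain ⟨t, ht, rfl⟩ := Finset.mem_image.mp hs
      by_cases hu : fixers p H (fixers p H t) = Set.univ
      · exact (slack_of_univ P hu).trans (by positivity)
      · have h0 := hgood H (Set (Sylow p H)) hH P _ hu
        have e := slack_fixers P (hne t ht)
        have h1 : ((orb H (fixers p H t)).card : ℤ) ≤ (orb H t).card := by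
          exact_mod_cast orb_fixers (p := p) t
        have h2 : (0 : ℤ) < (orb H t).card := by exact_mod_cast card_orb_pos t
        have h3 := hsl t ht
        have h4 : slack P (fixers p H t) * (orb H t).card ≤ (p * d : ℤ) * (orb H t).card := by
          rw [← e]
          calc slack P t * (orb H (fixers p H t)).card ≤ (p * d : ℤ) * (orb H (fixers p H t)).card :=
                mul_le_mul_of_nonneg_right h3 (by positivity)
            _ ≤ (p * d : ℤ) * (orb H t).card := mul_le_mul_of_nonneg_left h1 (by positivity)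
        exact le_of_mul_le_mul_right h4 h2
    obtain ⟨s₀, hs₀, hmax⟩ := T'.exists_max_image (fun s => Nat.card s) (hTne.image _)
    obtain ⟨P₀, hP₀⟩ : s₀.Nonempty := by
      obtain ⟨t, ht, rfl⟩ := Finset.mem_image.mp hs₀
      exact hne t ht
    have hP₀L : (P₀ : Subgroup H) ≤ fixGen p H s₀ := le_fixGen ((hfix _ hs₀).symm ▸ hP₀)
    set L := fixGen p H s₀ with hL
    have hLN : Nat.card L ≤ N :=
      (Nat.le_of_dvd Nat.card_pos (Subgroup.card_subgroup_dvd_card L)).trans hH
    have key : ∀ s ∈ T'.erase s₀, slack (P₀.subtype hP₀L) s ≤ p * (d + 1 : ℕ) := by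
      intro s hs
      obtain ⟨hss, hsT⟩ := Finset.mem_erase.mp hs
      obtain ⟨S, hS, hsum, huni⟩ := exists_suborbits hP₀L s
      obtain ⟨r, ⟨hrS, hsr⟩, -⟩ := huni s (mem_orb.mpr (mem_orbit_self s))
      have horb : orb (↥L) r = orb (↥L) s := by
        ext b
        rw [mem_orb, mem_orb, orbit_eq_iff.mpr (mem_orb.mp hsr)]
      have hslr : slack (P₀.subtype hP₀L) r = slack (P₀.subtype hP₀L) s := by
        rw [slack, slack, horb]
      rw [← hslr]
      have htriv : ∀ b ∈ S, fixers p L b = Set.univ → b = s₀ := by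
        intro b hb hu
        obtain ⟨g, rfl⟩ := mem_orb.mp (hS hb)
        have hsub := fixers_subset_of_univ (α := s₀) hu
        rw [hfix _ hs₀] at hsub
        have hb' : fixers p H (g • s) = g • s := by rw [fixers_smul, hfix _ hsT]
        have hsub' : s₀ ⊆ g • s := hb' ▸ hsub
        refine (Set.eq_of_subset_of_ncard_le hsub' ?_).symm
        rw [ncard_smul', ← Nat.card_coe_set_eq, ← Nat.card_coe_set_eq]
        exact hmax s hsT
      have hlow : ∀ b ∈ S, b ≠ s₀ → 0 ≤ slack (P₀.subtype hP₀L) b := fun b hb hbne =>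
        hgood L (Set (Sylow p H)) hLN _ b fun hu => hbne (htriv b hb hu)
      have hs₀low : -(p : ℤ) ≤ slack (P₀.subtype hP₀L) s₀ := by
        have h1 : orb (↥L) s₀ = {s₀} := by
          ext b
          rw [mem_orb, Finset.mem_singleton]
          refine ⟨?_, fun h => h ▸ mem_orbit_self _⟩
          rintro ⟨x, rfl⟩
          exact fixGen_le (p := p) (G := H) s₀ x.2
        rw [slack, h1, Finset.sum_singleton, wt]
        split_ifs <;> omega
      have htot : ∑ b ∈ S, slack (P₀.subtype hP₀L) b ≤ p * d := by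
        rw [← hsum, slack_sylow_indep P₀ P]
        exact hsl' s hsT
      have hrne : r ≠ s₀ := by
        rintro rfl
        obtain ⟨x, hx⟩ := mem_orb.mp hsr
        exact hss (hx ▸ fixGen_le (p := p) (G := H) r x.2)
      by_cases hmem : s₀ ∈ S
      · rw [← Finset.add_sum_erase _ _ hmem] at htot
        have := Finset.single_le_sum (f := fun b => slack (P₀.subtype hP₀L) b)
          (s := S.erase s₀) (fun b hb => hlow b (Finset.mem_of_mem_erase hb) (Finset.ne_of_mem_erase hb))
          (Finset.mem_erase.mpr ⟨hrne, hrS⟩)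
        push_cast
        linarith
      · have := Finset.single_le_sum (f := fun b => slack (P₀.subtype hP₀L) b)
          (s := S) (fun b hb => hlow b hb fun e => hmem (e ▸ hb)) hrS
        push_cast
        linarith [(p.cast_nonneg : (0 : ℤ) ≤ p)]
    obtain ⟨Q, hQ⟩ := ih L (Set (Sylow p H)) hLN (d + 1) (T'.erase s₀) (P₀.subtype hP₀L) (by
      rw [Finset.card_erase_of_mem hs₀]
      have : T'.card ≤ T.card := Finset.card_image_le
      omega) (by omega) key
    obtain ⟨R, hR⟩ := exists_lift hP₀L Q
    refine ⟨R, fun t ht => ?_⟩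
    have htT : fixers p H t ∈ T' := Finset.mem_image_of_mem _ ht
    rw [← hfix _ htT]
    intro x hx
    have hx' : x ∈ (Q : Subgroup L).map L.subtype := hR ▸ hx
    obtain ⟨y, hy, rfl⟩ := hx'
    by_cases he : fixers p H t = s₀
    · rw [he]
      exact fixGen_le s₀ y.2
    · exact hQ _ (Finset.mem_erase.mpr ⟨he, htT⟩) y hy

/-- The bound for an action in which the points of the orbit are determined by their fixers. -/
theorem slack_nonneg_of_reduced {N : ℕ} (hgood : GoodUpTo.{u} p N) (hN : Nat.card G = N + 1)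
    (P : Sylow p G) {α : Ω} (hα : fixers p G α ≠ Set.univ) (hne : (fixers p G α).Nonempty)
    (hinj : ∀ β ∈ orbit G α, fixers p G β = fixers p G α → β = α) : 0 ≤ slack P α := by
  classical
  obtain ⟨P₀, hP₀⟩ := hne
  rw [slack_sylow_indep P P₀]
  have hP₀L := le_fixGen hP₀
  obtain ⟨Q₁, hQ₁⟩ : ∃ Q : Sylow p G, Q ∉ fixers p G α := by
    by_contra h
    push Not at h
    exact hα (Set.eq_univ_of_forall h)
  obtain ⟨y, hyQ, hy⟩ : ∃ y ∈ Q₁, y • α ≠ α := by simpa [mem_fixers] using hQ₁
  set L := fixGen p G α with hL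
  have hLN : Nat.card L ≤ N := by
    have hlt : L < ⊤ := lt_top_iff_ne_top.mpr fun e =>
      hy (fixGen_le α (e ▸ Subgroup.mem_top y : y ∈ L))
    have hne' : Nat.card L ≠ Nat.card G := fun h => hlt.ne (Subgroup.eq_top_of_card_eq L h)
    have := Nat.le_of_dvd Nat.card_pos (Subgroup.card_subgroup_dvd_card L)
    omega
  obtain ⟨S, hS, hsum, huni⟩ := exists_suborbits hP₀L α
  rw [hsum]
  have h1 : orb (↥L) α = {α} := by
    ext b
    rw [mem_orb, Finset.mem_singleton]
    refine ⟨?_, fun h => h ▸ mem_orbit_self _⟩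
    rintro ⟨x, rfl⟩
    exact fixGen_le (p := p) (G := G) α x.2
  have hsingle : ∀ b, α ∈ orb (↥L) b → b = α := by
    intro b hb
    have hb' : b ∈ orb (↥L) α := mem_orb.mpr (mem_orbit_symm.mp (mem_orb.mp hb))
    rwa [h1, Finset.mem_singleton] at hb'
  obtain ⟨r, ⟨hrS, hαr⟩, -⟩ := huni α (mem_orb.mpr (mem_orbit_self α))
  have hαS : α ∈ S := hsingle r hαr ▸ hrS
  have hlow : ∀ b ∈ S, b ≠ α → 0 ≤ slack (P₀.subtype hP₀L) b := by
    intro b hb hbne
    refine hgood L Ω hLN _ b fun hu => hbne (hinj b (mem_orb.mp (hS hb)) ?_)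
    obtain ⟨g, rfl⟩ := mem_orb.mp (hS hb)
    refine (Set.eq_of_subset_of_ncard_le (fixers_subset_of_univ (α := α) hu) ?_).symm
    rw [← Nat.card_coe_set_eq, ← Nat.card_coe_set_eq, card_fixers_smul]
  rw [← Finset.add_sum_erase _ _ hαS]
  have hα0 : slack (P₀.subtype hP₀L) α = -(p : ℤ) := by
    rw [slack, h1, Finset.sum_singleton, wt, if_pos ((subtype_mem_fixers_iff hP₀L).mpr hP₀)]
    ring
  rw [hα0]
  by_cases hbig : ∃ b ∈ S.erase α, 0 < slack (P₀.subtype hP₀L) b
  · obtain ⟨b, hb, hpos⟩ := hbig
    have hpb : (p : ℤ) ≤ slack (P₀.subtype hP₀L) b := Int.le_of_dvd hpos (dvd_slack _ _)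
    have := Finset.single_le_sum (f := fun b => slack (P₀.subtype hP₀L) b)
      (s := S.erase α) (fun c hc => hlow c (Finset.mem_of_mem_erase hc) (Finset.ne_of_mem_erase hc)) hb
    linarith
  exfalso
  push Not at hbig
  obtain ⟨k, hk⟩ := Q₁.2 ⟨y, hyQ⟩
  obtain ⟨z, hz, hzne, hzp⟩ :=
    exists_cycle (p := p) ⟨k, by simpa using congrArg Subtype.val hk⟩ hy
  letI := Fintype.ofFinite Ω
  let T : Finset Ω := (cycle z α p \ {α}).toFinset
  have hTcard : T.card ≤ p - 1 := by
    have h2 := Set.ncard_sdiff_singleton_lt_of_mem (self_mem_cycle (p := p) z α)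
    have h3 := ncard_cycle_le (p := p) z α
    rw [← Set.ncard_eq_toFinset_card']
    omega
  have hTsl : ∀ t ∈ T, slack (P₀.subtype hP₀L) t ≤ (p : ℤ) * (0 : ℕ) := by
    intro t ht
    rw [Set.mem_toFinset] at ht
    obtain ⟨⟨i, rfl⟩, hne⟩ := ht
    have hto : z ^ (i : ℕ) • α ∈ orb G α := mem_orb.mpr (mem_orbit α _)
    obtain ⟨r, ⟨hrS, htr⟩, -⟩ := huni _ hto
    have horb : orb (↥L) r = orb (↥L) (z ^ (i : ℕ) • α) := by
      ext b
      rw [mem_orb, mem_orb, orbit_eq_iff.mpr (mem_orb.mp htr)]
    have hrne : r ≠ α := by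
      rintro rfl
      rw [h1, Finset.mem_singleton] at htr
      exact hne htr
    have hr0 := hbig r (Finset.mem_erase.mpr ⟨hrne, hrS⟩)
    rw [slack, horb] at hr0
    simpa [slack] using hr0
  obtain ⟨Q, hQ⟩ := exists_common_fixer hgood (p - 1) L Ω hLN 0 T (P₀.subtype hP₀L) hTcard
    (by omega) hTsl
  obtain ⟨R, hR⟩ := exists_lift hP₀L Q
  refine not_forall_fixed_cycle hz hzne hzp R fun x hx ω hω => ?_
  have hx' : x ∈ (Q : Subgroup L).map L.subtype := hR ▸ hx
  obtain ⟨w, hw, rfl⟩ := hx'
  by_cases he : ω = α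
  · rw [he]
    exact fixGen_le α w.2
  · exact hQ ω (Set.mem_toFinset.mpr ⟨hω, he⟩) w hw

theorem goodUpTo (N : ℕ) : GoodUpTo.{u} p N := by
  classical
  induction N with
  | zero =>
    intro H _ _ Θ _ _ hH
    exact absurd hH (by have := Nat.card_pos (α := H); omega)
  | succ N ih =>
    intro H _ _ Θ _ _ hH P α hα
    rcases Nat.lt_or_ge (Nat.card H) (N + 1) with hlt | hge
    · exact ih H Θ (by omega) P α hα
    have hN : Nat.card H = N + 1 := by omega
    rcases (fixers p H α).eq_empty_or_nonempty with hemp | hne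
    · have h0 : fixOrb P α = ∅ := by
        refine Finset.filter_false_of_mem fun β hβ => ?_
        obtain ⟨g, rfl⟩ := mem_orb.mp hβ
        rw [fixers_smul, hemp, Set.smul_set_empty]
        simp
      rw [slack_eq, h0, Finset.card_empty]
      have : (1 : ℤ) ≤ p := by exact_mod_cast hp.out.one_le
      push_cast
      nlinarith [(orb H α).card.cast_nonneg (α := ℤ)]
    have hff := fixers_fixers hne
    have h0 : 0 ≤ slack P (fixers p H α) := by
      refine slack_nonneg_of_reduced ih hN P (hff.symm ▸ hα) (hff.symm ▸ hne) fun β hβ he => ?_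
      obtain ⟨g, rfl⟩ := hβ
      rwa [fixers_smul, hff] at he
    have e := slack_fixers P hne
    have h1 : (0 : ℤ) < (orb H (fixers p H α)).card := by exact_mod_cast card_orb_pos _
    have h2 : (0 : ℤ) ≤ slack P (fixers p H α) * (orb H α).card := by positivity
    rw [← e] at h2
    exact nonneg_of_mul_nonneg_left h2 h1

/-- A Sylow `p`-subgroup fixes at most the fraction `(p-1)/(2p-1)` of the points of an orbit on
which it does not act trivially; equivalently, the same bound for the Sylow subgroups fixing a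
point. -/
theorem card_fixers_mul_le {α : Ω} (hα : fixers p G α ≠ Set.univ) :
    (2 * p - 1) * Nat.card (fixers p G α) ≤ (p - 1) * Nat.card (Sylow p G) := by
  obtain ⟨P⟩ := (inferInstance : Nonempty (Sylow p G))
  have h := goodUpTo (Nat.card G) G Ω le_rfl P α hα
  rw [slack_eq] at h
  have e : ((orb G α).card : ℤ) * Nat.card (fixers p G α) =
      Nat.card (Sylow p G) * (fixOrb P α).card := by exact_mod_cast double_count P α
  have h1 : 1 ≤ p := hp.out.one_le
  zify [h1, show 1 ≤ 2 * p by omega]
  have hn : (0 : ℤ) < (orb G α).card := by exact_mod_cast card_orb_pos α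
  refine le_of_mul_le_mul_right ?_ hn
  calc (2 * (p : ℤ) - 1) * Nat.card (fixers p G α) * (orb G α).card
      = (Nat.card (Sylow p G) : ℤ) * ((2 * (p : ℤ) - 1) * (fixOrb P α).card) := by
        linear_combination (2 * (p : ℤ) - 1) * e
    _ ≤ (Nat.card (Sylow p G) : ℤ) * (((p : ℤ) - 1) * (orb G α).card) :=
        mul_le_mul_of_nonneg_left (by linarith) (by positivity)
    _ = ((p : ℤ) - 1) * Nat.card (Sylow p G) * (orb G α).card := by ring

end Cfsg.Agent.SylowFix
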