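import Mathlib.GroupTheory.Sylow
import Mathlib.GroupTheory.GroupAction.Quotient
import Mathlib.GroupTheory.GroupAction.Pointwise
import Mathlib.GroupTheory.GroupAction.FixingSubgroup

/-!
# Sets of points fixed by a common Sylow subgroup

Elementary facts: a `p`-element normalizing a subgroup which contains a Sylow `p`-subgroup lies in
that subgroup; consequently a cycle of length `p` of a `p`-element is fixed pointwise by no Sylow
`p`-subgroup.
-/

namespace Cfsg.Agent.SylowFix

open MulAction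

universe u v

variable {G : Type u} [Group G] [Finite G] {p : ℕ} [hp : Fact p.Prime]

/-- A `p`-element normalizing a subgroup containing a Sylow `p`-subgroup lies in it. -/
theorem mem_of_normalizes (Q : Sylow p G) {K : Subgroup G} (hQ : (Q : Subgroup G) ≤ K) {y : G}
    (hy : ∃ k : ℕ, y ^ p ^ k = 1) (hyK : y ∈ Subgroup.normalizer (K : Set G)) : y ∈ K := by
  obtain ⟨k, hk⟩ := hy
  haveI : (K.subgroupOf (Subgroup.normalizer (K : Set G))).Normal := Subgroup.normal_in_normalizer
  set M := K.subgroupOf (Subgroup.normalizer (K : Set G)) with hM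
  have hdvd : orderOf (QuotientGroup.mk' M ⟨y, hyK⟩) ∣ p ^ k :=
    orderOf_dvd_of_pow_eq_one (by
      have h0 : (⟨y, hyK⟩ : Subgroup.normalizer (K : Set G)) ^ p ^ k = 1 := Subtype.ext (by simpa using hk)
      rw [← map_pow, h0, map_one])
  have hidx : orderOf (QuotientGroup.mk' M ⟨y, hyK⟩) ∣ M.index := by
    rw [Subgroup.index_eq_card]
    exact orderOf_dvd_natCard _
  have hne : ¬ p ∣ M.index := fun h => Q.not_dvd_index (h.trans ?_)
  · have hcop : (p ^ k).Coprime M.index :=
      ((Nat.Prime.coprime_iff_not_dvd hp.out).mpr hne).pow_left k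
    have h1 : orderOf (QuotientGroup.mk' M ⟨y, hyK⟩) = 1 :=
      Nat.eq_one_of_dvd_coprimes hcop hdvd hidx
    have h2 : (⟨y, hyK⟩ : Subgroup.normalizer (K : Set G)) ∈ M :=
      (QuotientGroup.eq_one_iff _).mp (orderOf_eq_one_iff.mp h1)
    exact h2
  · exact (dvd_trans (Subgroup.relIndex_dvd_index_of_le Subgroup.le_normalizer)
      (Subgroup.index_dvd_of_le hQ))

variable {Ω : Type v} [MulAction G Ω]

/-- A `p`-element moving a point has a power with a cycle of length exactly `p` through that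
point. -/
theorem exists_cycle {y : G} (hy : ∃ k : ℕ, y ^ p ^ k = 1) {β : Ω} (hne : y • β ≠ β) :
    ∃ z : G, (∃ k : ℕ, z ^ p ^ k = 1) ∧ z • β ≠ β ∧ z ^ p • β = β := by
  classical
  obtain ⟨k, hk⟩ := hy
  have hex : ∃ j : ℕ, (y ^ p ^ j) • β = β := ⟨k, by rw [hk, one_smul]⟩
  obtain ⟨j, hj⟩ : ∃ j, Nat.find hex = j + 1 := by
    refine Nat.exists_eq_succ_of_ne_zero fun h0 => hne ?_
    have := Nat.find_spec hex
    rwa [h0, pow_zero, pow_one] at this
  refine ⟨y ^ p ^ j, ⟨k, by rw [← pow_mul, mul_comm, pow_mul, hk, one_pow]⟩, ?_, ?_⟩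
  · exact Nat.find_min hex (by omega)
  · rw [← pow_mul, ← pow_succ]
    have := Nat.find_spec hex
    rwa [hj] at this

/-- The cycle of `z` through `β`. -/
def cycle (z : G) (β : Ω) (p : ℕ) : Set Ω := Set.range fun i : Fin p => (z ^ (i : ℕ)) • β

omit [Finite G] in
theorem self_mem_cycle (z : G) (β : Ω) : β ∈ cycle z β p :=
  ⟨⟨0, hp.out.pos⟩, by simp⟩

omit [Finite G] in
theorem pow_smul_mem_cycle {z : G} {β : Ω} (hz : z ^ p • β = β) (i : ℕ) :
    (z ^ i) • β ∈ cycle z β p := by
  induction i using Nat.strong_induction_on with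
  | _ i ih =>
    rcases lt_or_ge i p with h | h
    · exact ⟨⟨i, h⟩, rfl⟩
    · obtain ⟨l, rfl⟩ := Nat.exists_eq_add_of_le h
      rw [add_comm, pow_add, mul_smul, hz]
      exact ih l (by have := hp.out.pos; omega)

omit [Finite G] in
theorem smul_mem_cycle {z : G} {β : Ω} (hz : z ^ p • β = β) {ω : Ω} (h : ω ∈ cycle z β p) :
    z • ω ∈ cycle z β p := by
  obtain ⟨i, rfl⟩ := h
  rw [← mul_smul, ← pow_succ']
  exact pow_smul_mem_cycle hz _

omit [Finite G] in
theorem ncard_cycle_le (z : G) (β : Ω) : (cycle z β p).ncard ≤ p := by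
  rw [cycle, ← Set.image_univ]
  exact (Set.ncard_image_le).trans (by simp)

/-- A cycle of length `p` is fixed pointwise by no Sylow `p`-subgroup. -/
theorem not_forall_fixed_cycle {z : G} (hz : ∃ k : ℕ, z ^ p ^ k = 1) {β : Ω} (hne : z • β ≠ β)
    (hzp : z ^ p • β = β) (Q : Sylow p G) :
    ¬ ∀ x ∈ Q, ∀ ω ∈ cycle z β p, x • ω = ω := by
  intro h
  let K : Subgroup G := fixingSubgroup G (cycle z β p)
  have hQ : (Q : Subgroup G) ≤ K := fun x hx => (mem_fixingSubgroup_iff G).mpr fun ω hω => h x hx ω hω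
  have hsurj : ∀ ω ∈ cycle z β p, z⁻¹ • ω ∈ cycle z β p := by
    intro ω hω
    obtain ⟨i, rfl⟩ := hω
    have hzi : z⁻¹ = z ^ (orderOf z - 1) := by
      apply inv_eq_of_mul_eq_one_right
      rw [← pow_succ', Nat.sub_add_cancel (orderOf_pos z), pow_orderOf_eq_one]
    show z⁻¹ • z ^ (i : ℕ) • β ∈ cycle z β p
    rw [hzi, ← mul_smul, ← pow_add]
    exact pow_smul_mem_cycle hzp _
  have hzK : z ∈ Subgroup.normalizer (K : Set G) := by
    refine Subgroup.mem_normalizer_iff.mpr fun x => ?_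
    simp only [K, mem_fixingSubgroup_iff]
    constructor
    · intro hx ω hω
      rw [mul_smul, mul_smul, hx _ (hsurj ω hω), smul_inv_smul]
    · intro hx ω hω
      have := hx _ (smul_mem_cycle hzp hω)
      rw [mul_smul, mul_smul, inv_smul_smul] at this
      exact smul_left_cancel _ this
  exact hne ((mem_fixingSubgroup_iff G).mp (mem_of_normalizes Q hQ hz hzK) β (self_mem_cycle z β))

end Cfsg.Agent.SylowFix
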